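import Cfsg.Agent.Lib.Mult.Lin

/-!
# The Weyl group of `E₈` as a group of matrices over `ℤ/5` (helper21)

The roots are `± 2 eᵢ` and the sign vectors on the planes of the affine space `Fin 8`.
-/

set_option autoImplicit false

namespace Cfsg.Lib.E8W

open Cfsg.Lib.Calc Cfsg.Lib.Mult Subgroup Matrix Equiv

/-- matrices -/
abbrev GG := GL (Fin 8) (ZMod 5)
/-- sign vectors -/
abbrev V := Fin 8 → ℤˣ

variable {g h w x : GG} {a b : ℕ} {u v : V} {k l : Perm (Fin 8)}

/-- arithmetic -/
def fP : FP := ⟨5, 16, 8, 205, 10⟩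

/-- codes -/
def Cd (g : GG) (c : ℕ) : Prop := fP.Val 8 c ∧ ∀ i j : Fin 8, g.1 i j = (get 16 c (8 * j + i) : ℕ)

/-- product of codes -/
noncomputable def mu (a b : ℕ) : ℕ := forceN a fun a => forceN b fun b => fP.app 8 a b

theorem Cd.mul (p : Cd g a) (q : Cd h b) : Cd (g * h) (mu a b) := by
  have ok : fP.ok = true := by decide +kernel
  rw [mu, forceN_eq, forceN_eq]
  refine ⟨p.1.app ok q.1, fun i j => ?_⟩
  have := FP.get_app ok p.1 q.1 j.2 i.2
  erw [this, ZMod.natCast_mod _ 5, Finset.sum_range]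
  simp only [Units.val_mul, mul_apply, p.2, q.2, Nat.cast_sum, Nat.cast_mul, mul_comm]
  rfl

theorem Cd.ext (p : Cd g a) (q : Cd h b) (e : Nat.beq a b = true) : g = h :=
  Units.ext (Matrix.ext fun i j => by rw [p.2, q.2, beq_iff.1 e])

/-- the code of a matrix -/
noncomputable def enc (F : Fin 8 → Fin 8 → ℕ) : ℕ := pack 16 (fun t => F (Fin.ofNat 8 t) (Fin.ofNat 8 (t / 8)) % 5) 64

theorem Cd.enc {F : Fin 8 → Fin 8 → ℕ} (h : ∀ i j, g.1 i j = (F i j : ℕ)) : Cd g (enc F) := by
  have k (t : ℕ) (_ : t < 64) : F (Fin.ofNat 8 t) (Fin.ofNat 8 (t / 8)) % 5 < 2 ^ 16 := by omega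
  refine ⟨⟨pack_lt (w := 16) (n := 64) k, fun t ht => (get_pack k ht).trans_lt (Nat.mod_lt _ (by decide))⟩, fun i j => ?_⟩
  rw [E8W.enc, get_pack k (by omega), ZMod.natCast_mod, h]
  congr 2 <;> ext <;> simp <;> omega

/-- the code of a product -/
noncomputable def cl (cs : ℕ → ℕ) (l : List ℕ) : ℕ :=
  List.rec (enc fun i j => if i = j then 1 else 0) (fun c _ ih => mu (cs c) ih) l

theorem Cd.list {κ : ℕ → GG} {cs : ℕ → ℕ} (h : ∀ c, Cd (κ c) (cs c)) (l : List ℕ) : Cd (l.map κ).prod (cl cs l) := by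
  induction l with
  | nil => exact (Cd.enc fun i j => by simp [one_apply] : Cd 1 (E8W.enc fun i j => if i = j then 1 else 0))
  | cons c l ih => exact ((h c).mul ih : Cd (κ c * (l.map κ).prod) (mu (cs c) (cl cs l)))

/-- signs -/
def sg (x : ℤˣ) : ZMod 5 := ((x : ℤ) : ZMod 5)

theorem sg_mul : ∀ x y, sg (x * y) = sg x * sg y := by decide
theorem sg_inj : ∀ x y, sg x = sg y → x = y := by decide
theorem sg_can : ∀ x y (c : ZMod 5), sg x * c = c * sg y → c ≠ 0 → x = y := by decide

/-- diagonal matrices -/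
def dg : V →* GG := MonoidHom.toHomUnits
  { toFun v := diagonal fun i => sg (v i), map_one' := by simp [sg], map_mul' u v := by simp [sg_mul] }

/-- permutation matrices -/
def pm : Perm (Fin 8) →* GG := MonoidHom.toHomUnits
  { toFun k := of fun i j => if k j = i then 1 else 0, map_one' := by ext i j; simp [one_apply, eq_comm]
    map_mul' k l := by ext i j; simp [mul_apply]; rfl }

/-- permuting the coordinates -/
def pa (k : Perm (Fin 8)) (v : V) : V := fun i => v (k⁻¹ i)

theorem mon_apply (i j : Fin 8) : (dg v * pm k).1 i j = if k j = i then sg (v i) else 0 := by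
  simp [dg, pm]

theorem pm_dg : pm k * dg v = dg (pa k v) * pm k := Units.ext (Matrix.ext fun i j => by
  rw [mon_apply]
  by_cases e : k j = i
  · subst e; simp [dg, pm, pa]
  · simp [dg, pm, e])

theorem pm_conj : pm k * dg v * (pm k)⁻¹ = dg (pa k v) := by rw [pm_dg, mul_inv_cancel_right]

theorem mon_mul : dg u * pm k * (dg v * pm l) = dg (u * pa k v) * pm (k * l) := by
  rw [map_mul, map_mul, mul_assoc, ← mul_assoc (pm k), pm_dg]; simp only [mul_assoc]

theorem mon_inj (e : dg u * pm k = dg v * pm l) : u = v ∧ k = l := by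
  have h (j : Fin 8) := congrArg (fun g : GG => g.1 (k j) j) e
  simp only [mon_apply, if_true] at h
  have h1 : k = l := Equiv.ext fun j => by_contra fun n => by
    have := h j
    rw [if_neg (Ne.symm n)] at this
    exact (by decide : ∀ x, sg x ≠ 0) _ this
  subst h1
  exact ⟨funext fun i => by simpa using sg_inj _ _ (by simpa using h (k⁻¹ i)), rfl⟩

theorem dg_inj (e : dg u = dg v) : u = v := (mon_inj (k := 1) (l := 1) (by rw [e])).1

theorem dg_neg : dg (-v) = -dg v := Units.ext (Matrix.ext fun i j => by simp [dg, sg, diagonal_apply]; split_ifs <;> simp)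

theorem dg_neg_one : dg (-1) = -1 := by rw [dg_neg, map_one]

theorem vsq (v : V) : v * v = 1 := funext fun _ => Int.units_mul_self _

theorem dg_sq (v : V) : dg v * dg v = 1 := by rw [← map_mul, vsq, map_one]

theorem dg_comm (u v : V) : dg u * dg v = dg v * dg u := by rw [← map_mul, mul_comm, map_mul]

theorem sep (e : dg u * x = x * dg v) {i j : Fin 8} (n : x.1 i j ≠ 0) : u i = v j :=
  sg_can _ _ _ (by simpa [dg] using congrArg (fun g : GG => g.1 i j) e) n

/-- parity -/
def par : V →* ℤˣ := ⟨⟨fun v => ∏ i, v i, by simp⟩, fun _ _ => Finset.prod_mul_distrib⟩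

theorem par_pa : par (pa k v) = par v := Equiv.prod_comp k⁻¹ v

theorem det_dg : (dg v).1.det = sg (par v) := by simp [dg, par, sg]

/-- the roots -/
def RT : ℕ := nat_lit 0x41010040140400101010104401004041040010104010401010401044001100100020000040404011010010114004400410011001004400440400404044001404400410000004144011040014040404004401004040440100044140040010140400101101001400440041001010110400011410044000011400401100000003004014040110011001001100100004114000300000401401020000000404010101040101011000044100104400000002040104040044001100140100440401040004114004400004104400440110044001100001410400104014004104040401004100140040440400041001410041001444400001004044001011010004111000014004140014004400401400440400400440044000011110000114114000011010104011004011002000000000014410104104010400404401001011100140001100410104010401001041001101001401040101441000004400410041040010044001400144100404001041400004141000011101004040000141104401001101004010110400400414400410000411400110001400440101010100410011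041004400004100441001011001040401040401011004041014440000001400114111000041410000400404400401010444410000140041001004014001044010001114000000441101101004010410101010404030000000101040100110044000441100111400004100140000114400014040040110014044004400001100414004400400000200010440404010101001100110401004014144000000000300141100004400110000003000401010404400004400300000101010400000200000200000100101400101401000141400400440011111000000144400004444004004041000111100040410400041410004010101000044410014001404100410001100110000444400004414411400004040040101040404101001044100004404040104400104400300000040014001001400444100001400141100100410041400004440400101041040044400001400004141140000140140100100001414010140400011001444140000010104041414000004041010004400414100410004100440400104100410100114001400040110400044410000001144044040014411000004010404040110101144000010404040000014440000411110404010110000110011004440011004100110040044001140100104000000030000111410400401004100410140014040041004100140010041001111000041040404040101010111410000440014001100410001400110010401011004400100000002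

/-- the roots -/
def rv (n : ℕ) (i : Fin 8) : ZMod 5 := (get 4 (get 32 RT (n % 240)) i : ℕ)

theorem rv_dot (n : ℕ) : rv n ⬝ᵥ rv n = 4 := by
  have := (by decide +kernel : ∀ n < 240, rv n ⬝ᵥ rv n = 4) _ (Nat.mod_lt n (by decide))
  rwa [show rv (n % 240) = rv n from funext fun i => by rw [rv, Nat.mod_mod, rv]] at this

/-- reflections -/
def rf (v : Fin 8 → ZMod 5) : Matrix (Fin 8) (Fin 8) (ZMod 5) := 1 + vecMulVec ((2 : ZMod 5) • v) v

theorem rf_sq (n : ℕ) : rf (rv n) * rf (rv n) = 1 := by
  rw [rf, mul_add, add_mul, add_mul, vecMulVec_mul_vecMulVec, dotProduct_smul, rv_dot]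
  simp only [mul_one, one_mul, smul_vecMulVec, vecMulVec_smul, smul_smul, add_assoc, ← add_smul]
  rw [show (2 + (2 + (2 : ZMod 5) • 4 * 2) : ZMod 5) = 0 by decide, zero_smul, add_zero]

/-- reflections -/
def refl (n : ℕ) : GG := ⟨rf (rv n), rf (rv n), rf_sq n, rf_sq n⟩

theorem refl_sq (n : ℕ) : refl n * refl n = 1 := Units.ext (rf_sq n)

theorem det_refl (n : ℕ) : (refl n).1.det = -1 := by
  simp only [refl, rf, vecMulVec_eq Unit, det_one_add_replicateCol_mul_replicateRow, dotProduct_smul, rv_dot]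
  decide

/-- the Weyl group -/
def WW : Subgroup GG := closure (Set.range refl)

/-- its subgroup of index two -/
def W0 : Subgroup GG := WW ⊓ GeneralLinearGroup.det.ker

theorem mem_W0 : w ∈ W0 ↔ w ∈ WW ∧ w.1.det = 1 := and_congr_right fun _ => Units.ext_iff

theorem refl_mem (n : ℕ) : refl n ∈ WW := subset_closure ⟨n, rfl⟩

theorem WW_ind {p : GG → Prop} (m : w ∈ WW) (h1 : p 1) (h2 : ∀ n, ∀ y ∈ WW, p y → p (refl n * y)) : p w := by
  induction m using closure_induction_left with
  | one => exact h1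
  | mul_left x a y b ih => exact a.elim fun n e => e ▸ h2 n y b ih
  | inv_mul_cancel x a y b ih => exact a.elim fun n e => e ▸ h2 n y b ih

theorem orth (m : w ∈ WW) : w.1ᵀ * w.1 = 1 := WW_ind (p := fun w => w.1ᵀ * w.1 = 1) m (by simp) fun n y _ ih => by
  have : (rf (rv n))ᵀ = rf (rv n) := by simp [rf, smul_vecMulVec, vecMulVec_smul]
  change (rf _ * _)ᵀ * (rf _ * _) = 1
  rw [transpose_mul, this, mul_assoc, ← mul_assoc (rf _), rf_sq, one_mul, ih]

theorem det_or (m : w ∈ WW) : w.1.det = 1 ∨ w.1.det = -1 :=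
  (by decide : ∀ x : ZMod 5, x * x = 1 → x = 1 ∨ x = -1) _ (by simpa using congrArg det (orth m))

theorem conj_refl (m : w ∈ WW) {n n' : ℕ} (e : w.1 *ᵥ rv n = rv n') : w * refl n = refl n' * w := Units.ext (by
  change w.1 * rf _ = rf _ * w.1
  rw [rf, rf, mul_add, add_mul, mul_one, one_mul, mul_vecMulVec, vecMulVec_mul, mulVec_smul, e, ← e, vecMul_mulVec, orth m,
    vecMul_one])

theorem refl_apply (n : ℕ) (i j : Fin 8) : (refl n).1 i j = (if i = j then 1 else 0) + 2 * rv n i * rv n j := by
  simp [refl, rf, one_apply, vecMulVec_apply, mul_assoc]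

/-- the code of a reflection -/
noncomputable def crf (f : Fin 8 → ℕ) : ℕ := enc fun i j => (if i = j then 1 else 0) + 2 * f i * f j

theorem cd_rf {n : ℕ} {f : Fin 8 → ℕ} (h : ∀ i, rv n i = f i) : Cd (refl n) (crf f) :=
  .enc fun i j => by simp [refl_apply, h]

/-- the code of a reflection -/
noncomputable def cr (n : ℕ) : ℕ := forceN (get 32 RT (n % 240)) fun x => crf fun i => get 4 x i

theorem cd_refl (n : ℕ) : Cd (refl n) (cr n) := by rw [cr, forceN_eq]; exact cd_rf fun _ => rfl

/-- `f` is one of the first `b` roots -/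
noncomputable def fd (b : ℕ) (f : Fin 8 → ℕ) : Bool :=
  forceB (pack 4 (fun i => f (Fin.ofNat 8 i) % 5) 8) fun x => anyLt b fun m => Nat.beq (get 32 RT m) x

theorem fd_spec {f : Fin 8 → ℕ} (h : fd b f = true) (hb : b ≤ 240 := by omega) : ∃ m < b, ∀ i, rv m i = f i := by
  rw [fd, forceB_eq, anyLt_iff] at h
  obtain ⟨m, h1, h2⟩ := h
  refine ⟨m, h1, fun i => ?_⟩
  rw [rv, Nat.mod_eq_of_lt (by omega), beq_iff.1 h2, get_pack (fun _ _ => by omega) i.2, ZMod.natCast_mod]
  simp

theorem dg_mem (v : V) : dg v ∈ WW := by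
  rw [← Finset.univ_prod_mulSingle v]
  refine prod_mem (S := WW.comap dg) fun i _ => ?_
  rcases Int.units_eq_one_or (v i) with e | e
  · rw [e, Pi.mulSingle_one]; exact one_mem _
  obtain ⟨n, -, h⟩ := fd_spec ((by decide +kernel : ∀ i : Fin 8, fd 240 (fun j => if j = i then 2 else 0) = true) i)
  refine e ▸ subset_closure ⟨n, Units.ext (Matrix.ext fun j l => ?_)⟩
  rw [refl_apply, h, h]
  change _ = diagonal _ j l
  rw [diagonal_apply]
  clear * -
  revert i j l
  decide +kernel

theorem dg_mem0 : dg v ∈ W0 ↔ par v = 1 := by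
  rw [mem_W0, det_dg]; exact ⟨fun h => sg_inj _ _ h.2, fun h => ⟨dg_mem v, by rw [h]; rfl⟩⟩

theorem neg_mem0 : -1 ∈ W0 := dg_neg_one ▸ dg_mem0.2 (by decide)

theorem mul_mem0 (p : g ∈ WW) (q : h ∈ WW) (p' : g ∉ W0) (q' : h ∉ W0) : g * h ∈ W0 :=
  mem_W0.2 ⟨mul_mem p q, by
    rw [Units.val_mul, det_mul, (det_or p).resolve_left fun e => p' (mem_W0.2 ⟨p, e⟩),
      (det_or q).resolve_left fun e => q' (mem_W0.2 ⟨q, e⟩)]; rfl⟩

theorem refl_not (n : ℕ) : refl n ∉ W0 := fun h => absurd ((det_refl n).symm.trans (mem_W0.1 h).2) (by decide)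

theorem conj_mem0 (p : w ∈ WW) (q : g ∈ W0) : w * g * w⁻¹ ∈ W0 :=
  mem_inf.2 ⟨mul_mem (mul_mem p q.1) (inv_mem p), (MonoidHom.normal_ker _).conj_mem _ q.2 _⟩

/-- the code of a permutation matrix -/
noncomputable def cpm (k : Fin 8 → Fin 8) : ℕ := enc fun i j => if k j = i then 1 else 0

theorem cd_pm (k : Perm (Fin 8)) : Cd (pm k) (cpm k) := .enc fun i j => by simp [pm]

/-- the affine group -/
def KK : Subgroup (Perm (Fin 8)) where
  carrier := {k | ∀ i j l, k (i ^^^ j ^^^ l) = k i ^^^ k j ^^^ k l}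
  one_mem' _ _ _ := rfl
  mul_mem' {k l} p q a b c := (congrArg k (q a b c)).trans (p _ _ _)
  inv_mem' {k} p a b c := k.injective (by rw [p]; simp)

theorem aff_of (h : ∀ i j, k (i ^^^ j) = k i ^^^ k j ^^^ k 0) : k ∈ KK := fun i j l => by
  rw [h, h]
  exact (by decide +kernel : ∀ a b c d : Fin 8, a ^^^ b ^^^ d ^^^ c ^^^ d = a ^^^ b ^^^ c) _ _ _ _

/-- an affine map by its values -/
def af (a b c d : Fin 8) : Fin 8 → Fin 8 := ![a, b, c, a ^^^ b ^^^ c, d, a ^^^ b ^^^ d, a ^^^ c ^^^ d, b ^^^ c ^^^ d]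

theorem af_eq (m : k ∈ KK) : ⇑k = af (k 0) (k 1) (k 2) (k 4) := by
  funext i
  fin_cases i
  exacts [rfl, rfl, rfl, m 0 1 2, rfl, m 0 1 4, m 0 2 4, m 1 2 4]

/-- double transpositions of a plane -/
def sw (a b c : Fin 8) : Perm (Fin 8) := swap a b * swap c (a ^^^ b ^^^ c)

theorem sw_mem {a b c : Fin 8} (p : a ≠ b) (q : a ≠ c) (r : b ≠ c) : sw a b c ∈ KK :=
  aff_of ((by decide +kernel : ∀ a b c : Fin 8, a ≠ b → a ≠ c → b ≠ c → ∀ i j,
    sw a b c (i ^^^ j) = sw a b c i ^^^ sw a b c j ^^^ sw a b c 0) a b c p q r)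

/-- a vector on a plane -/
def pv (a b c : Fin 8) (x y : ℕ) (i : Fin 8) : ℕ :=
  if i = a then 1 else if i = b then 4 else if i = c then x else if i = a ^^^ b ^^^ c then y else 0

theorem sw_mem0 {a b c : Fin 8} (p : a ≠ b) (q : a ≠ c) (r : b ≠ c) : pm (sw a b c) ∈ W0 := by
  obtain ⟨h1, h2, h3⟩ := (by decide +kernel : ∀ a b c : Fin 8, a ≠ b → a ≠ c → b ≠ c → fd 240 (pv a b c 1 4) = true ∧
    fd 240 (pv a b c 4 1) = true ∧ Nat.beq (cpm (sw a b c)) (mu (crf (pv a b c 1 4)) (crf (pv a b c 4 1))) = true) a b c p q r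
  obtain ⟨n, -, hn⟩ := fd_spec h1
  obtain ⟨m, -, hm⟩ := fd_spec h2
  rw [(cd_pm _).ext ((cd_rf hn).mul (cd_rf hm)) h3]
  exact mul_mem0 (refl_mem n) (refl_mem m) (refl_not n) (refl_not m)

theorem pm_step {F : List (Fin 8)} {t : Fin 8} (ih : ∀ k ∈ KK, (∀ f ∈ t :: F, k f = f) → pm k ∈ W0)
    (H : t ∉ F ∧ ∀ x, x ∉ F → x ≠ t → ∃ c, x ≠ c ∧ t ≠ c ∧ sw x t c x = t ∧ ∀ f ∈ F, sw x t c f = f := by decide +kernel) :
    ∀ k ∈ KK, (∀ f ∈ F, k f = f) → pm k ∈ W0 := fun k m h => by
  by_cases e : k t = t
  · exact ih k m (List.forall_mem_cons.2 ⟨e, h⟩)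
  obtain ⟨c, h1, h2, h3, h4⟩ := H.2 (k t) (fun n => e (k.injective (h _ n))) e
  exact (mul_mem_cancel_left (sw_mem0 e h1 h2)).1 (map_mul pm _ _ ▸ ih _ (mul_mem (sw_mem e h1 h2) m)
    (List.forall_mem_cons.2 ⟨h3, fun f n => (congrArg _ (h f n)).trans (h4 f n)⟩))

theorem eq_one_of (m : k ∈ KK) (h0 : k 0 = 0) (h1 : k 1 = 1) (h2 : k 2 = 2) (h4 : k 4 = 4) : k = 1 :=
  Equiv.ext fun i => by rw [af_eq m, h0, h1, h2, h4]; revert i; decide

theorem pm_mem0 (m : k ∈ KK) : pm k ∈ W0 := by
  refine pm_step (t := 0) (F := []) (pm_step (t := 1) (pm_step (t := 2) fun k m h => pm_step (t := 4) (F := [3, 2, 1, 0])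
    (fun k m h => ?_) (by decide +kernel) k m (List.forall_mem_cons.2 ⟨?_, h⟩))) (by decide +kernel) k m (by simp)
  · rw [eq_one_of m (h 0 (by simp)) (h 1 (by simp)) (h 2 (by simp)) (h 4 (by simp)), map_one]; exact one_mem _
  · exact (m 0 1 2).trans (by rw [h 0 (by simp), h 1 (by simp), h 2 (by simp)]; rfl)

end Cfsg.Lib.E8W
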