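import Cfsg.Agent.Lib.E8W.Pres

/-!
# A Sylow 2-subgroup of the Weyl group of `E₈`: classes of involutions, large elementary abelian subgroups (helper21)
-/

set_option autoImplicit false

namespace Cfsg.Lib.E8W

open Cfsg.Lib.Calc Cfsg.Lib.Mult Subgroup Matrix Equiv
open scoped commutatorElement Pointwise

variable {g h w x : GG} {u v : V} {k l : Perm (Fin 8)} {n m f : ℕ} {U : Subgroup GG}

/-- sign vectors from numbers -/
def vec (n : ℕ) : V := fun i => if n.testBit i then -1 else 1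

theorem vec_xor (n m : ℕ) : vec (n ^^^ m) = vec n * vec m := funext fun i => by
  simp only [vec, Nat.testBit_xor, Pi.mul_apply]; cases n.testBit i <;> cases m.testBit i <;> rfl

theorem vec_inj (a : n < 256) (b : m < 256) (e : vec n = vec m) : n = m := Nat.eq_of_testBit_eq fun i => by
  rcases lt_or_ge i 8 with c | c
  · have := congrFun e ⟨i, c⟩
    simp only [vec] at this
    revert this; cases n.testBit i <;> cases m.testBit i <;> decide
  · have := Nat.pow_le_pow_right two_pos c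
    rw [Nat.testBit_lt_two_pow (by omega), Nat.testBit_lt_two_pow (by omega)]

theorem exists_vec (v : V) : ∃ n < 256, vec n = v :=
  let ⟨n, h⟩ := ((show Function.Injective fun n : Fin 256 => vec n from fun a b e => Fin.ext (vec_inj a.2 b.2 e)).bijective_of_nat_card_le
    (by simp)).2 v
  ⟨n, n.2, h⟩

theorem get_one_eq (c i : ℕ) : get 1 c i = (c.testBit i).toNat := by rw [get_eq, Nat.toNat_testBit]; simp

/-- a table of bits -/
noncomputable def bits (p : ℕ → Bool) (n : ℕ) : ℕ := pack 1 (fun i => (p i).toNat) n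

theorem bits_lt (p : ℕ → Bool) (n : ℕ) : bits p n < 2 ^ n := by
  simpa [bits] using pack_lt (w := 1) (n := n) (f := fun i => (p i).toNat) fun i _ => Bool.toNat_lt _

theorem testBit_bits {p : ℕ → Bool} {i : ℕ} (h : i < n) : (bits p n).testBit i = p i := by
  have := (get_one_eq _ _).symm.trans (get_pack (w := 1) (f := fun i => (p i).toNat) (fun i _ => Bool.toNat_lt _) h)
  revert this; unfold bits; cases p i <;> cases Nat.testBit _ i <;> simp

/-- permuting bits -/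
noncomputable def act (k : Fin 8 → Fin 8) (n : ℕ) : ℕ := bits (fun i => n.testBit (k (Fin.ofNat 8 i))) 8

theorem vec_act (k : Fin 8 → Fin 8) (n : ℕ) (i : Fin 8) : vec (act k n) i = vec n (k i) := by
  simp [vec, act, testBit_bits i.2]

theorem pa_vec (e : k * k = 1) : pa k (vec n) = vec (act k n) := funext fun i => by
  rw [vec_act, pa, inv_eq_of_mul_eq_one_right e]

/-- the code of a monomial matrix -/
noncomputable def cmon (f : ℕ) (k : Fin 8 → Fin 8) : ℕ := enc fun i j => if k j = i then if f.testBit i then 4 else 1 else 0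

theorem cd_mon (f : ℕ) (k : Perm (Fin 8)) : Cd (dg (vec f) * pm k) (cmon f k) := .enc fun i j => by
  rw [mon_apply, vec]; split_ifs <;> rfl

theorem cd_dg (f : ℕ) : Cd (dg (vec f)) (cmon f id) := by simpa using cd_mon f 1

/-- a Sylow 2-subgroup of the affine group -/
def SS : Subgroup (Perm (Fin 8)) := KK ⊓
  { carrier := {k | (∀ i, k (i ^^^ 1) = k i ^^^ 1) ∧ ∀ i j, (k i).1 / 4 = (k j).1 / 4 ↔ i.1 / 4 = j.1 / 4}
    one_mem' := ⟨fun _ => rfl, fun _ _ => .rfl⟩
    mul_mem' := fun {k l} p q => ⟨fun i => (congrArg k (q.1 i)).trans (p.1 _), fun i j => (p.2 _ _).trans (q.2 i j)⟩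
    inv_mem' := fun {k} p => ⟨fun i => k.injective (by rw [p.1]; simp), fun i j => by rw [← p.2]; simp⟩ }

/-- its elements -/
def sf (n : ℕ) : Fin 8 → Fin 8 :=
  af (Fin.ofNat 8 n) (Fin.ofNat 8 n ^^^ 1) (Fin.ofNat 8 (n ^^^ (2 + n / 8 % 2))) (Fin.ofNat 8 (n ^^^ (4 + n / 16 % 4)))

theorem S_param (m : k ∈ SS) : ∃ n < 64, ⇑k = sf n := by
  obtain ⟨n, a, b⟩ := (by decide +kernel : ∀ a c d : Fin 8, c.1 / 4 = a.1 / 4 → c ≠ a → c ≠ a ^^^ 1 → d.1 / 4 ≠ a.1 / 4 →
    ∃ n < 64, ∀ i, af a (a ^^^ 1) c d i = sf n i) (k 0) (k 2) (k 4) ((m.2.2 _ _).2 rfl) (k.injective.ne (by decide))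
      (m.2.1 0 ▸ k.injective.ne (by decide)) (mt (m.2.2 _ _).1 (by decide))
  exact ⟨n, a, by rw [af_eq m.1, show k 1 = k 0 ^^^ 1 from m.2.1 0]; exact funext b⟩

theorem card_SS : Nat.card SS = 64 := by
  have h := (by decide +kernel : ∀ n : Fin 64, Function.Injective (sf n) ∧ (∀ i j, sf n (i ^^^ j) = sf n i ^^^ sf n j ^^^ sf n 0) ∧
    (∀ i, sf n (i ^^^ 1) = sf n i ^^^ 1) ∧ (∀ i j, (sf n i).1 / 4 = (sf n j).1 / 4 ↔ i.1 / 4 = j.1 / 4) ∧
    ∀ m : Fin 64, (∀ i, sf n i = sf m i) → n = m)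
  refine (Nat.card_eq_of_bijective (fun n : Fin 64 => (⟨ofBijective _ (h n).1.bijective_of_finite, aff_of (h n).2.1, (h n).2.2.1,
    (h n).2.2.2.1⟩ : SS)) ⟨fun n m e => (h n).2.2.2.2 m fun i => congrArg (·.1 i) e, fun k => ?_⟩).symm.trans (by simp)
  obtain ⟨n, a, b⟩ := S_param k.2
  exact ⟨⟨n, a⟩, Subtype.ext (Equiv.ext fun i => (congrFun b i).symm)⟩

/-- a Sylow 2-subgroup -/
def TT : Subgroup GG where
  carrier := {g | ∃ v, ∃ k ∈ SS, g = dg v * pm k}
  one_mem' := ⟨1, 1, one_mem _, by simp⟩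
  mul_mem' := by rintro _ _ ⟨_, _, a, rfl⟩ ⟨_, _, c, rfl⟩; exact ⟨_, _, mul_mem a c, mon_mul⟩
  inv_mem' := by rintro _ ⟨v, k, a, rfl⟩; exact ⟨_, _, inv_mem a, by rw [_root_.mul_inv_rev, ← map_inv, ← map_inv, pm_dg]⟩

theorem syl (le : U ≤ WW) (h2 : IsPGroup 2 U) : ∃ p ∈ W0, ∀ x ∈ U, p * x * p⁻¹ ∈ TT := by
  have l : TT ≤ WW := fun _ ⟨v, k, a, b⟩ => b ▸ mul_mem (dg_mem v) (pm_mem0 a.1).1
  have c : Nat.card (TT.subgroupOf WW) = 2 ^ 14 := by
    rw [Nat.card_congr (subgroupOfEquivOfLe l).toEquiv, ← Nat.card_eq_of_bijective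
      (fun p : V × SS => (⟨_, p.1, p.2, p.2.2, rfl⟩ : TT)) ⟨fun p q e => Prod.ext (mon_inj (congrArg Subtype.val e)).1
        (Subtype.ext (mon_inj (congrArg Subtype.val e)).2), fun ⟨_, v, k, a, b⟩ => ⟨(v, ⟨k, a⟩), Subtype.ext b.symm⟩⟩,
      Nat.card_prod, card_SS]
    simp
  have c1 := (W0.subgroupOf WW).card_mul_index
  rw [Nat.card_congr (subgroupOfEquivOfLe (show W0 ≤ WW from inf_le_left)).toEquiv, card_W0, index_eq_two_iff.2 ⟨⟨_, refl_mem 0⟩, fun b => by
    by_cases e : b.1 ∈ W0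
    · exact .inr ⟨e, fun n => refl_not 0 ((mul_mem_cancel_left e).1 n)⟩
    · exact .inl ⟨mul_mem0 b.2 (refl_mem 0) e (refl_not 0), e⟩⟩] at c1
  have c2 := (TT.subgroupOf WW).card_mul_index
  rw [c, ← c1] at c2
  obtain ⟨Q, hQ⟩ := (h2.comap_of_injective WW.subtype Subtype.val_injective).exists_le_sylow
  have c3 : ¬2 ∣ (TT.subgroupOf WW).index := by omega
  obtain ⟨p, hp⟩ := MulAction.exists_smul_eq WW Q ((IsPGroup.of_card c).toSylow c3)
  have k (x) (m : x ∈ U) : p * x * p.1⁻¹ ∈ TT := by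
    have : MulAut.conj p • (⟨x, le m⟩ : WW) ∈ (p • Q : Sylow 2 WW) := smul_mem_pointwise_smul _ _ _ (hQ m)
    rwa [hp] at this
  by_cases e : p.1 ∈ W0
  · exact ⟨p, e, k⟩
  have d : dg (vec 1) ∈ TT := ⟨vec 1, 1, one_mem _, by simp⟩
  exact ⟨dg (vec 1) * p, mul_mem0 (dg_mem _) p.2 (mt dg_mem0.1 (by decide)) e, fun x m => by
    simpa [mul_assoc] using mul_mem (mul_mem d (k x m)) (inv_mem d)⟩

/-- the translation by `1` -/
def tt : Perm (Fin 8) := sw 0 1 2 * sw 4 5 6

theorem tt_mem : tt ∈ KK := mul_mem (sw_mem (by decide) (by decide) (by decide)) (sw_mem (by decide) (by decide) (by decide))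

/-- conjugation -/
noncomputable def cjc (A B g x : ℕ) : ℕ := forceN (cmon g id) fun g => mu (mu (mu A g) x) (mu g B)

theorem Cd.cj {c : ℕ} (a : Cd x c) (l : List ℕ) (g : ℕ) :
    ∃ p ∈ WW, Cd (p * x * p⁻¹) (cjc (cl cr l) (cl cr l.reverse) g c) := by
  refine ⟨(l.map refl).prod * dg (vec g), mul_mem (list_mem l).1 (dg_mem _), ?_⟩
  rw [cjc, forceN_eq, _root_.mul_inv_rev, inv_eq_of_mul_eq_one_right (dg_sq _), List.prod_inv_reverse, List.map_map,
    show (fun x => x⁻¹) ∘ refl = refl from funext fun n => inv_eq_of_mul_eq_one_right (refl_sq n), ← List.map_reverse]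
  exact (((Cd.list cd_refl l).mul (cd_dg g)).mul a).mul ((cd_dg g).mul (.list cd_refl _))

/-- conjugating elements -/
def TAB : List (ℕ × ℕ × List ℕ × ℕ × List ℕ) :=
  [(0, 0, [], 0, []), (1, 85, [4, 10], 0, []), (2, 51, [2, 27], 0, [69, 6]), (3, 51, [3, 11], 17, [44, 7]),
    (4, 15, [2, 27], 0, [104, 4]), (5, 15, [4, 10], 5, [155, 7]), (6, 15, [2, 27], 0, [57, 9]), (7, 15, [3, 11], 5, [24, 7]),
    (8, 68, [4], 0, []), (9, 17, [10], 0, []), (12, 15, [4, 10], 4, [104, 36]), (13, 15, [4, 10], 1, [14, 4]),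
    (16, 80, [6], 0, []), (17, 5, [16], 0, []), (18, 51, [6, 16], 16, [69, 43]), (19, 51, [6, 16], 1, [48, 6]),
    (24, 20, [34], 0, []), (25, 65, [9], 0, []), (30, 15, [9, 34], 4, [76, 9]), (31, 15, [9, 34], 1, [57, 23]),
    (32, 48, [6], 0, []), (33, 53, [6, 16], 0, [61, 6]), (34, 3, [16], 0, []), (35, 83, [6, 16], 0, [48, 0]),
    (48, 48, [6], 0, []), (49, 53, [6, 16], 0, [6]), (50, 83, [6, 16], 0, [69]), (51, 3, [16], 0, [])]

theorem chkC : (TAB.all fun e => forceB (cl cr e.2.2.1) fun A => forceB (cl cr e.2.2.1.reverse) fun A' =>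
    forceB (cl cr e.2.2.2.2) fun B => forceB (cl cr e.2.2.2.2.reverse) fun B' => allLt 256 fun f =>
    forceB (f ^^^ act (sf e.1) f) fun s => band (bor (blt 0 s) (forceB (cjc A A' (f &&& e.2.1) (cmon f (sf e.1))) fun y =>
      Nat.beq y (cmon (bits (fun i => Nat.beq (get 16 y (9 * i)) 4) 8) id)))
    (bor (blt s 255) (Nat.beq (cjc B B' ((f &&& e.2.1) ^^^ e.2.2.2.1) (cmon f (sf e.1))) (cmon 170 tt)))) = true := by
  decide +kernel

theorem mem_TAB : ∀ n < 64, (∀ i, sf n (sf n i) = i) → n ∈ TAB.map Prod.fst := by decide +kernel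

theorem cls (m : x ∈ WW) : (x * x = 1 → ∃ p ∈ W0, ∃ v, p * x * p⁻¹ = dg v) ∧
    (x * x = -1 → ∃ p ∈ WW, p * x * p⁻¹ = dg (vec 170) * pm tt) := by
  have key {s} (hs : s < 256) (e : x * x = dg (vec s)) : ∃ p ∈ WW, (s = 0 → ∃ v, p * x * p⁻¹ = dg v) ∧
      (s = 255 → p * x * p⁻¹ = dg (vec 170) * pm tt) ∨ s ≠ 0 ∧ s ≠ 255 := by
    by_cases c : s ≠ 0 ∧ s ≠ 255
    · exact ⟨1, one_mem _, .inr c⟩
    have ce (p : GG) : p * dg (vec s) * p⁻¹ = dg (vec s) := by
      rcases not_and_or.1 c with c | c <;> rw [not_not.1 c]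
      · rw [show vec 0 = 1 by decide]; simp
      · rw [show vec 255 = -1 by decide, dg_neg_one]; simp
    obtain ⟨p, a, b⟩ := syl (zpowers_le.2 m) (IsPGroup.of_card (n := _) ((Nat.card_zpowers x).trans
      ((Nat.dvd_prime_pow Nat.prime_two).1 (orderOf_dvd_of_pow_eq_one (n := 2 ^ 2) (by
        rw [show 2 ^ 2 = 2 * 2 from rfl, pow_mul, sq, sq, e, dg_sq]))).choose_spec.2))
    obtain ⟨v, k, d, b⟩ := b x (mem_zpowers x)
    obtain ⟨f, hf, rfl⟩ := exists_vec v
    obtain ⟨n, hn, hk⟩ := S_param d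
    have := mon_inj (l := 1) (v := vec s) (mon_mul.symm.trans
      (show dg (vec f) * pm k * (dg (vec f) * pm k) = _ by rw [← b, map_one, mul_one, ← ce p, ← e]; group))
    rw [pa_vec this.2, ← vec_xor] at this
    obtain ⟨t, ht, rfl⟩ := List.mem_map.1 (mem_TAB n hn fun i => hk ▸ Equiv.congr_fun this.2 i)
    have H := List.all_eq_true.1 chkC t ht
    simp only [forceB_eq, allLt_iff, band_eq_true, bor_eq_true, blt_iff] at H
    replace H := H f hf
    rw [← hk, vec_inj (Nat.xor_lt_two_pow (n := 8) (y := act k f) hf (bits_lt _ _)) hs this.1] at H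
    rcases not_and_or.1 c with c | c <;> obtain rfl := not_not.1 c
    · obtain ⟨q, q1, q2⟩ := (cd_mon f k).cj t.2.2.1 (f &&& t.2.1)
      exact ⟨q * p, mul_mem q1 a.1, .inl ⟨fun _ => ⟨_, by
        rw [← q2.ext (cd_dg _) (H.1.resolve_left (by decide)), ← b]; group⟩, by simp⟩⟩
    · obtain ⟨q, q1, q2⟩ := (cd_mon f k).cj t.2.2.2.2 ((f &&& t.2.1) ^^^ t.2.2.2.1)
      exact ⟨q * p, mul_mem q1 a.1, .inl ⟨by simp, fun _ => by
        rw [← q2.ext (cd_mon _ _) (H.2.resolve_left (by decide)), ← b]; group⟩⟩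
  refine ⟨fun e => ?_, fun e => ?_⟩
  · obtain ⟨p, a, b⟩ := key (s := 0) (by decide) (by rw [e, show vec 0 = 1 by decide, map_one])
    obtain ⟨v, b⟩ := (b.resolve_right (by simp)).1 rfl
    by_cases c : p ∈ W0
    · exact ⟨p, c, v, b⟩
    · exact ⟨dg (vec 1) * p, mul_mem0 (dg_mem _) a (mt dg_mem0.1 (by decide)) c, v, by
        rw [← mul_inv_cancel_right (dg v) (dg (vec 1)), dg_comm, ← b]; group⟩
  · exact (key (s := 255) (by decide) (by rw [e, show vec 255 = -1 by decide, dg_neg_one])).imp fun p a =>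
      ⟨a.1, (a.2.resolve_right (by simp)).2 rfl⟩

/-- the frame of a subsystem `D₈` -/
def cM (i j : Fin 8) : ℕ := if i.1 / 2 = j.1 / 2 then if i.1 % 2 = 1 ∧ j.1 % 2 = 1 then 4 else 1 else 0

/-- the frame of a subsystem `D₈` -/
def cA : GG := ⟨of fun i j => (cM i j : ℕ), of fun i j => (3 * cM i j : ℕ), by decide +kernel, by decide +kernel⟩

theorem cd_cA : Cd cA (enc cM) := .enc fun _ _ => rfl

theorem cA_swap {a b : Fin 8} (h : a ≠ b) : ∃ n, cA * pm (swap a b) = refl n * cA := by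
  obtain ⟨h1, h2⟩ := (by decide +kernel : ∀ a b : Fin 8, a ≠ b → fd 240 (fun i => cM i a + 4 * cM i b) = true ∧
    Nat.beq (mu (enc cM) (cpm (swap a b))) (mu (crf fun i => cM i a + 4 * cM i b) (enc cM)) = true) a b h
  obtain ⟨n, -, e⟩ := fd_spec h1
  exact ⟨n, (cd_cA.mul (cd_pm _)).ext ((cd_rf e).mul cd_cA) h2⟩

set_option synthInstance.maxSize 2000 in
theorem cA_mon : ∀ n < 64, (∀ j, sf n j = j ∨ sf n j = j ^^^ 1) → ∀ f < 256, (∀ j, vec f (tt⁻¹ j) = vec f j) →
    par (vec (f ^^^ ((act (sf n) 170 ^^^ 170) &&& 170))) = 1 ∧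
    Nat.beq (mu (cmon f (sf n)) (enc cM)) (mu (enc cM) (cmon (f ^^^ ((act (sf n) 170 ^^^ 170) &&& 170)) id)) = true := by
  decide +kernel

/-- even vectors -/
def EV : ℕ := nat_lit 0x9669699669969669699696699669699669969669966969969669699669969669

/-- fixed vectors -/
noncomputable def FM : ℕ :=
  pack 256 (fun n => if n ∈ TAB.map Prod.fst then bits (fun f => Nat.beq (act (sf n) f) f) 256 else 0) 64

/-- counting vectors -/
noncomputable def cnt (e : Bool) (M : ℕ) : ℕ := forceN (M &&& cnd e EV (2 ^ 256 - 1)) fun M =>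
  Nat.rec (motive := fun _ => ℕ) 0 (fun i ih => Nat.add ih (get 1 M i)) 256

theorem cnt_eq (e : Bool) (M : ℕ) : cnt e M = Nat.count (fun f => (M &&& cnd e EV (2 ^ 256 - 1)).testBit f = true) 256 := by
  rw [cnt, forceN_eq]
  generalize M &&& cnd e EV (2 ^ 256 - 1) = M
  generalize 256 = n
  induction n with
  | zero => rfl
  | succ n ih => rw [Nat.count_succ, ← ih]; change _ + get 1 M n = _; rw [get_one_eq]; cases M.testBit n <;> rfl

set_option synthInstance.maxSize 2000 in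
theorem chkB : ∃ Y, get 256 Y 0 = get 256 FM 0 ∧ ∀ i < 52, (∀ n ∈ TAB.map Prod.fst, (∃ j < 52,
    get 256 Y i &&& get 256 FM n = get 256 Y j) ∨ cnt false (get 256 Y i &&& get 256 FM n) ≤ 8 ∧
      cnt true (get 256 Y i &&& get 256 FM n) ≤ 4) ∧ ∀ e b : Bool, cnt e (get 256 Y i) * Nat.count (fun n => n ∈ TAB.map Prod.fst ∧
      get 256 Y i &&& get 256 FM n = get 256 Y i ∧ (b = true ∨ n ≠ 1)) 64 < (if e then 128 else 256) ∨
    (∀ n ∈ TAB.map Prod.fst, get 256 Y i &&& get 256 FM n = get 256 Y i → n = 0) ∨ e = true ∧ b = true ∧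
    ∀ n ∈ TAB.map Prod.fst, get 256 Y i &&& get 256 FM n = get 256 Y i → ∀ j, sf n j = j ∨ sf n j = j ^^^ 1 := by
  have k {p : ℕ → ℕ → Prop} [∀ a b, Decidable (p a b)] (F : ℕ → ℕ)
      (h : (forceB FM fun X => forceB (F X) fun Y => decide (p X Y)) = true) : ∃ Y, p FM Y := ⟨_, by simpa using h⟩
  exact k (p := fun X Y => get 256 Y 0 = get 256 X 0 ∧ ∀ i < 52, (∀ n ∈ TAB.map Prod.fst, (∃ j < 52,
    get 256 Y i &&& get 256 X n = get 256 Y j) ∨ cnt false (get 256 Y i &&& get 256 X n) ≤ 8 ∧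
      cnt true (get 256 Y i &&& get 256 X n) ≤ 4) ∧ ∀ e b : Bool, cnt e (get 256 Y i) * Nat.count (fun n => n ∈ TAB.map Prod.fst ∧
      get 256 Y i &&& get 256 X n = get 256 Y i ∧ (b = true ∨ n ≠ 1)) 64 < (if e then 128 else 256) ∨
    (∀ n ∈ TAB.map Prod.fst, get 256 Y i &&& get 256 X n = get 256 Y i → n = 0) ∨ e = true ∧ b = true ∧
    ∀ n ∈ TAB.map Prod.fst, get 256 Y i &&& get 256 X n = get 256 Y i → ∀ j, sf n j = j ∨ sf n j = j ^^^ 1)
    (fun X => pack 256 (fun i => forceN (get 18 (nat_lit 0x118804200098802600094402500088802200084402100076401d80066401980052401480042401080034400d0002440090001880060000cc0032000c400300008c00220008400200007c001e0006400180004c001200044001000034000c0002400080001c00060001400040000c0002000040000) i)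
      fun t => get 256 X (get 6 t 0) &&& get 256 X (get 6 t 1) &&& get 256 X (get 6 t 2)) 52) (by decide +kernel)

theorem card_le_count {α : Type*} {p : ℕ → Prop} [DecidablePred p] {N : ℕ} (c : α → ℕ) (i : Function.Injective c)
    (h : ∀ a, c a < N ∧ p (c a)) : Nat.card α ≤ Nat.count p N := by
  rw [Nat.count_eq_card_filter_range, ← Nat.card_eq_finsetCard]
  exact Nat.card_le_card_of_injective (fun a => ⟨c a, by simpa using h a⟩) fun _ _ e => i (congrArg Subtype.val e)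

theorem big (le : U ≤ TT) (h2 : ∀ x ∈ U, x * x = 1) (e : Bool) (h0 : e = true → U ≤ W0)
    (hc : (if e then 128 else 256) ≤ Nat.card U) :
    (∀ x ∈ U, ∃ v, x = dg v) ∨ e = true ∧ ∀ x ∈ U, ∃ v, par v = 1 ∧ x * cA = cA * dg v := by
  obtain ⟨Y, Y0, H⟩ := chkB
  choose v k hk hx using fun x : U => le x.2
  choose n hn hs using fun x => S_param (hk x)
  choose f hf hv using fun x => exists_vec (v x)
  let φ : U →* Perm (Fin 8) := .mk' k fun x y => (mon_inj ((hx (x * y)).symm.trans (by rw [coe_mul, hx x, hx y, mon_mul]))).2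
  have k2 (x) : k x * k x = 1 := (map_mul φ x x).symm.trans (by rw [show x * x = 1 from Subtype.ext (h2 x x.2), map_one])
  have nI (x) : n x ∈ TAB.map Prod.fst := mem_TAB _ (hn x) fun i => hs x ▸ Equiv.congr_fun (k2 x) i
  have cm (x y : U) : v x * pa (k x) (v y) = v y * pa (k y) (v x) := (mon_inj (by
    rw [← mon_mul, ← mon_mul, ← hx, ← hx, ← inv_eq_of_mul_eq_one_right (h2 _ (mul_mem x.2 y.2)), _root_.mul_inv_rev,
      inv_eq_of_mul_eq_one_right (h2 _ x.2), inv_eq_of_mul_eq_one_right (h2 _ y.2)])).1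
  have fx {m g} (a : m < 64) (b : m ∈ TAB.map Prod.fst) (c : g < 256) (d : act (sf m) g = g) : (get 256 FM m).testBit g = true := by
    rw [FM, get_pack (fun _ _ => by split_ifs; exacts [bits_lt _ _, Nat.two_pow_pos _]) a, if_pos b, testBit_bits c, beq_iff, d]
  have fy (x : φ.ker) (y) : (get 256 FM (n y)).testBit (f x) = true := fx (hn y) (nI y) (hf x) (vec_inj (bits_lt _ _) (hf x) (by
    have := cm x y
    rw [show k x = 1 from x.2, show pa 1 (v y) = v y from rfl, mul_comm, mul_right_inj] at this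
    rw [← hs, ← pa_vec (k2 y), hv, ← this]))
  have ind (j) : ∃ M : ℕ, (∀ x : φ.ker, M.testBit (f x) = true) ∧ (cnt false M ≤ 8 ∧ cnt true M ≤ 4 ∨
      (∃ i < 52, M = get 256 Y i) ∧ ∀ y, n y < j → M &&& get 256 FM (n y) = M) := by
    induction j with
    | zero => exact ⟨_, fun x => fx (m := 0) (by decide) (by decide) (hf x) (vec_inj (bits_lt _ _) (hf x) (funext fun i => by
        rw [vec_act, (by decide : ∀ i, sf 0 i = i)])), .inr ⟨⟨0, by decide, Y0.symm⟩, by simp⟩⟩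
    | succ j ih =>
      obtain ⟨M, a, b | ⟨⟨i, b, rfl⟩, c⟩⟩ := ih
      · exact ⟨M, a, .inl b⟩
      by_cases d : ∃ y, n y = j
      · obtain ⟨y, rfl⟩ := d
        refine ⟨_, fun x => by rw [Nat.testBit_and, a, fy]; rfl, ((H i b).1 _ (nI y)).symm.imp_right fun t => ⟨t, fun z s => ?_⟩⟩
        rcases Nat.lt_succ_iff_lt_or_eq.1 s with s | s
        · rw [Nat.and_assoc, Nat.and_comm (get 256 FM _), ← Nat.and_assoc, c z s]
        · rw [s, Nat.and_assoc, Nat.and_self]
      · exact ⟨_, a, .inr ⟨⟨i, b, rfl⟩, fun z s => c z (lt_of_le_of_ne (Nat.le_of_lt_succ s) fun t => d ⟨z, t⟩)⟩⟩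
  obtain ⟨M, a, b⟩ := ind 64
  have dx (x : φ.ker) : x.1.1 = dg (vec (f x)) := by rw [hx, show k x = 1 from x.2, hv, map_one, mul_one]
  have c1 : Nat.card φ.ker ≤ cnt e M := cnt_eq e M ▸ card_le_count (fun x : φ.ker => f x) (fun x y s => Subtype.ext
    (Subtype.ext (by rw [dx, dx]; exact congrArg (dg <| vec ·) s))) fun x => ⟨hf x, by
      rw [Nat.testBit_and, a, Bool.true_and]
      cases e
      · rw [cnd_false, Nat.testBit_two_pow_sub_one]; exact decide_eq_true (hf x)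
      · exact (by decide +kernel : ∀ f < 256, par (vec f) = 1 → EV.testBit f = true) _ (hf x) (dg_mem0.1 (dx x ▸ h0 rfl x.1.2))⟩
  have c2 {p : ℕ → Prop} [DecidablePred p] (h : ∀ y, p (n y)) : Nat.card U ≤ cnt e M * Nat.count p 64 := by
    rw [← φ.ker.card_mul_index, index_ker]
    exact Nat.mul_le_mul c1 (card_le_count (fun r : φ.range => n r.2.choose) (fun r s t => Subtype.ext (by
      rw [← r.2.choose_spec, ← s.2.choose_spec]
      exact DFunLike.coe_injective ((hs _).trans ((congrArg sf t).trans (hs _).symm)))) fun r => ⟨hn _, h _⟩)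
  obtain b | ⟨⟨i, b, rfl⟩, c⟩ := b
  · have := hc.trans (c2 nI)
    rw [show Nat.count (· ∈ TAB.map Prod.fst) 64 = 28 by decide +kernel] at this
    cases e <;> simp at this <;> omega
  classical
  obtain d | d | ⟨d1, d2, d⟩ := (H i b).2 e (decide (∃ y, n y = 1))
  · exact absurd (hc.trans (c2 fun y => ⟨nI y, c y (hn y), by
      by_cases t : n y = 1; exacts [.inl (decide_eq_true ⟨y, t⟩), .inr t]⟩)) d.not_ge
  · exact .inl fun x m => ⟨_, dx ⟨⟨x, m⟩, Equiv.ext fun i => (congrFun (hs _) i).trans (by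
      rw [d _ (nI _) (c _ (hn _))]; revert i; decide)⟩⟩
  obtain ⟨y, hy⟩ := of_decide_eq_true d2
  have ky : k y = tt := Equiv.ext fun i => (congrFun (hs _) i).trans (by rw [hy]; revert i; decide)
  have vy := (mon_inj (l := 1) (v := 1) (mon_mul.symm.trans (by rw [← hx y, h2 _ y.2]; simp))).1
  refine .inr ⟨d1, fun x m => ?_⟩
  have d := d _ (nI ⟨x, m⟩) (c _ (hn _))
  have := cm ⟨x, m⟩ y
  rw [show pa (k ⟨x, m⟩) (v y) = v y from funext fun i => by
    rw [pa, inv_eq_of_mul_eq_one_right (k2 _), hs]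
    rcases d i with t | t <;> rw [t]
    have := congrFun ((mul_eq_one_iff_eq_inv.1 vy).trans (inv_eq_of_mul_eq_one_right (vsq _))) i
    rwa [ky, pa, (by decide : ∀ i, tt⁻¹ i = i ^^^ 1), eq_comm] at this, mul_comm, mul_right_inj, ky, ← hv] at this
  obtain ⟨p, q⟩ := cA_mon _ (hn _) d _ (hf _) fun j => (congrFun this j).symm
  rw [← hs] at q
  have := ((cd_mon _ _).mul cd_cA).ext (cd_cA.mul (cd_dg _)) q
  rw [hv, ← hx] at this
  exact ⟨_, p, hs _ ▸ this⟩

/-- the orbits of the affine group on the sign vectors -/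
def ty (f : ℕ) : ℕ := get 4 (nat_lit 0x8776766576656559766565546554544376656554655454436559544354439332766565546554544365545943549343326554549359434332544343324332322176656554655454436554549359434332655459435493433254434332433232216559544354439332544343324332322154434332433232219332322132212110) f

/-- representatives -/
def rp (t : ℕ) : ℕ := [0, 1, 3, 84, 86, 87, 252, 254, 255, 85].getD t 0

theorem orb (h : f < 256) : ∃ k ∈ KK, vec f = pa k (vec (rp (ty f))) := by
  have k {p : (Fin 8 → Fin 8) → Prop} [DecidablePred p] (c : ℕ) (h : (forceB c fun c => decide (p (af (Fin.ofNat 8 c)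
    (Fin.ofNat 8 (c / 8)) (Fin.ofNat 8 (c / 64)) (Fin.ofNat 8 (c / 512))))) = true) : ∃ k, p k := ⟨_, by simpa using h⟩
  obtain ⟨k, a, b, c⟩ := k (p := fun k => Function.Injective k ∧ (∀ i j, k (i ^^^ j) = k i ^^^ k j ^^^ k 0) ∧ act k (rp (ty f)) = f)
    (get 12 (nat_lit 0x8888888818888118508421eb8d18d08c206b81a14b159159111310302e2b222f43f58f583a2b03b18b1875075015915971171070222be22943958958fa2d03d18d1835035055955911aa0ba19a19ad0ad0a19a19a50a50a99a99a50a50a42d1ab11b10f0282b622343558558ba2503318318d50d509599590e2a43a98a98ac1ac1ac1ac1a88a88a88a88ad1ad1a0ace2d628838588588c88c88c88c88818818818818118118ca162f10f10b19b1975175114a7a211111170aa22662b02f10d11d11f10b0242ba225433583587a2303518518950950d59d59162a83a58a58ac8ac8ac8ac8a81a81a81a81a11a11acad62ce28438988988c18c18c18c18888888888888d18d180a0e2b10b10f19f1915115174aba271171110a622a62f02b10b11d1a80b8198198d08d081981985085089989985085084211a710710119119f51f51f4afa2b11b11b0ae2206270271071131031051951995195194a3a2d11d11d0a222c6230231011131031030281a2228c28d08d13a2842850811888881888888)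 f) (by revert f; decide +kernel)
  exact ⟨(ofBijective k a.bijective_of_finite)⁻¹, inv_mem (aff_of b), funext fun i => by
    rw [pa, inv_inv, ofBijective_apply, ← vec_act, c]⟩

/-- an element of order three -/
def y0 : Perm (Fin 8) := sw 2 4 3 * sw 2 6 3

theorem y0_mem : y0 ∈ KK := mul_mem (sw_mem (by decide) (by decide) (by decide)) (sw_mem (by decide) (by decide) (by decide))

theorem r1w (a : w ∈ WW) (b : x ∈ WW) (c : w * w = 1 ∨ w * w = -1) (d : x * x = w ∨ x * x = -w)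
    (h : ∀ l ∈ W0, ∀ y ∈ W0, w * l = l * w → w * y = y * w → y ^ 3 = 1 → ⁅l, y⁆ * ⁅l, y⁆ = 1 → x * ⁅l, y⁆ = ⁅l, y⁆ * x) :
    w = 1 ∨ w = -1 := by
  wlog e : (∃ t < 10, w = dg (vec (rp t))) ∨ w = dg (vec 170) * pm tt generalizing w x
  · obtain ⟨p, m, e⟩ : ∃ p ∈ WW, (∃ t < 10, p * w * p⁻¹ = dg (vec (rp t))) ∨ p * w * p⁻¹ = dg (vec 170) * pm tt := by
      rcases c with c | c
      · obtain ⟨p, m, v, e⟩ := (cls a).1 c
        obtain ⟨f, hf, rfl⟩ := exists_vec v
        obtain ⟨k, n, s⟩ := orb hf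
        exact ⟨(pm k)⁻¹ * p, mul_mem (inv_mem (pm_mem0 n).1) m.1, .inl ⟨_, (by decide +kernel : ∀ f < 256, ty f < 10) f hf, by
          rw [s, ← pm_conj] at e
          rw [← mul_left_inj (pm k)⁻¹, ← mul_right_inj (pm k), ← mul_assoc (pm k) (dg _), ← e]; group⟩⟩
      · exact ((cls a).2 c).imp fun p s => ⟨s.1, .inr s.2⟩
    let α := MulAut.conj p
    have ng (g) : α (-g) = -α g := by simp [α]
    have mw (g) (s : g ∈ WW) : α g ∈ WW := show p * g * p⁻¹ ∈ WW from mul_mem (mul_mem m s) (inv_mem m)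
    have := this (mw w a) (mw x b)
      (by rw [← map_mul]; exact c.imp (fun s => by rw [s, map_one]) fun s => by rw [s, ng, map_one])
      (by rw [← map_mul, ← ng]; exact d.imp (congrArg α) (congrArg α)) (fun l r y s h1 h2 h3 h4 => by
        obtain ⟨l, rfl⟩ := α.surjective l
        obtain ⟨y, rfl⟩ := α.surjective y
        simp only [← map_mul, ← map_pow, ← map_commutatorElement, α.injective.eq_iff, map_eq_one_iff _ α.injective] at h1 h2 h3 h4 ⊢
        exact h l (by simpa [α, mul_assoc] using conj_mem0 (inv_mem m) r) y (by simpa [α, mul_assoc] using conj_mem0 (inv_mem m) s)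
          h1 h2 h3 h4) (by simpa only [α, MulAut.conj_apply] using e)
    exact this.imp (map_eq_one_iff _ α.injective).1 fun s => α.injective (by rw [s, ng, map_one])
  have k (u) (p : par u = 1) (q : w * dg u = dg u * w) (r : w * pm y0 = pm y0 * w) {i j} (s : x.1 i j ≠ 0) :
      (u * pa y0 u) i = (u * pa y0 u) j := sep (by
    rw [← comm_dg]
    exact (h _ (dg_mem0.2 p) _ (pm_mem0 y0_mem) q r (by rw [← map_pow, show y0 ^ 3 = 1 by decide, map_one])
      (by rw [comm_dg, dg_sq])).symm) s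
  rcases e with ⟨t, ht, rfl⟩ | rfl
  · have k1 {i j} (s : x.1 i j ≠ 0) : i = j ∨ i.1 < 2 ∧ j.1 < 2 := by_contra fun n => by
      obtain ⟨a, b, p, q⟩ := (by decide +kernel : ∀ i j : Fin 8, ¬(i = j ∨ i.1 < 2 ∧ j.1 < 2) →
        ∃ a b, par (EE a b) = 1 ∧ (EE a b * pa y0 (EE a b)) i ≠ (EE a b * pa y0 (EE a b)) j) i j n
      exact q (k _ p (dg_comm _ _) (by rw [pm_dg, (by decide +kernel : ∀ t < 10, pa y0 (vec (rp t)) = vec (rp t)) t ht]) s)
    obtain ⟨v, l, m, rfl⟩ := mono b fun j => ⟨j, j ^^^ 1, fun i s => by have := k1 s; clear s; revert i j; decide⟩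
    have k2 (j) : l j = j ∨ (l j).1 < 2 ∧ j.1 < 2 := k1 (by rw [mon_apply, if_pos rfl]; exact (by decide : ∀ s, sg s ≠ 0) _)
    have k3 (j : Fin 8) (s : 2 ≤ j.1) : l j = j := (k2 j).resolve_right fun t => t.2.not_ge s
    obtain rfl := eq_one_of m ((m 2 4 6).trans (by rw [k3 2 (by decide), k3 4 (by decide), k3 6 (by decide)]; rfl))
      ((m 2 4 7).trans (by rw [k3 2 (by decide), k3 4 (by decide), k3 7 (by decide)]; rfl)) (k3 2 (by decide)) (k3 4 (by decide))
    rw [map_one, mul_one, dg_sq] at d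
    exact d.imp Eq.symm fun d => neg_eq_iff_eq_neg.1 d.symm
  have k1 {i j} (s : x.1 i j ≠ 0) : i = j ∨ i = j ^^^ 1 := by_contra fun n => by
    obtain ⟨a, p, q, r⟩ := (by decide +kernel : ∀ i j : Fin 8, ¬(i = j ∨ i = j ^^^ 1) → ∃ a, par (EE a (a ^^^ 1)) = 1 ∧
      pa tt (EE a (a ^^^ 1)) = EE a (a ^^^ 1) ∧ (EE a (a ^^^ 1) * pa y0 (EE a (a ^^^ 1))) i ≠ (EE a (a ^^^ 1) * pa y0 (EE a (a ^^^ 1))) j) i j n
    exact r (k _ p (by rw [mul_assoc, pm_dg, q, ← mul_assoc, ← mul_assoc, dg_comm]) (by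
      rw [← mul_assoc, pm_dg, mul_assoc, mul_assoc, ← map_mul, ← map_mul, show tt * y0 = y0 * tt by decide,
        show pa y0 (vec 170) = vec 170 by decide]) s)
  obtain ⟨v, l, m, rfl⟩ := mono b fun j => ⟨j, j ^^^ 1, fun i => k1⟩
  have k2 (j) : l j = j ∨ l j = j ^^^ 1 := k1 (by rw [mon_apply, if_pos rfl]; exact (by decide : ∀ s, sg s ≠ 0) _)
  rw [mon_mul, ← neg_mul, ← dg_neg] at d
  have k3 : l (l 0) = 1 := Equiv.congr_fun (d.elim (mon_inj · |>.2) (mon_inj · |>.2)) 0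
  rcases k2 0 with s | s <;> rw [s] at k3
  · exact absurd (s.symm.trans k3) (by decide)
  · exact absurd (l.injective (s.trans k3.symm)) (by decide)

end Cfsg.Lib.E8W
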